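import Cfsg.Agent.H439.Der.Three
import Cfsg.Agent.LFourA.AltPsiAut

/-!
# Common tools for the rows of `A₅` and `A₆` (S3502)
-/

set_option autoImplicit false

namespace Cfsg.Agent.H853.Der

open Subgroup Equiv Equiv.Perm Cfsg.Agent.H938.Sax Cfsg.Agent.H439.Der

section gen

variable {T : Type*} [Group T] {R : Subgroup T}

theorem missT {x : T} (hx : ¬ orderOf x ∣ Nat.card R) (g : T) : g * x * g⁻¹ ∉ R :=
  not_mem_of_dvd hx dvd_rfl (MulAut.conj g)

theorem ne_ord {x y : T} (h : orderOf x ≠ orderOf y) (g : T) : g * x * g⁻¹ ≠ y := by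
  rintro rfl
  exact h (orderOf_mulEquiv (MulAut.conj g) x).symm

/-- an element of order `a` and two nonconjugate elements of order `b` -/
theorem threeT_of {a b : ℕ} {x y z : T} (hx : orderOf x = a) (hy : orderOf y = b) (hz : orderOf z = b)
    (hab : a ≠ b) (hyz : ∀ g : T, g * y * g⁻¹ ≠ z) (ha : ¬ a ∣ Nat.card R) (hb : ¬ b ∣ Nat.card R) :
    ThreeT T R :=
  ⟨x, y, z, missT (by rwa [hx]), missT (by rwa [hy]), missT (by rwa [hz]),
    ne_ord (by rwa [hx, hy]), ne_ord (by rwa [hx, hz]), hyz⟩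

/-- the same where the elements of order `a` are not excluded by divisibility -/
theorem threeT_of' {a b : ℕ} {x y z : T} (hx : orderOf x = a) (hy : orderOf y = b) (hz : orderOf z = b)
    (hab : a ≠ b) (hyz : ∀ g : T, g * y * g⁻¹ ≠ z) (ha : ∀ m ∈ R, orderOf m ≠ a) (hb : ¬ b ∣ Nat.card R) :
    ThreeT T R :=
  ⟨x, y, z, fun g hg => ha _ hg (by rw [← hx]; exact orderOf_mulEquiv (MulAut.conj g) x),
    missT (by rwa [hy]), missT (by rwa [hz]),
    ne_ord (by rwa [hx, hy]), ne_ord (by rwa [hx, hz]), hyz⟩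

theorem no_order {a : ℕ} (ha : ¬ a ∣ Nat.card R) : ∀ m ∈ R, orderOf m ≠ a := by
  rintro m hm rfl
  apply ha
  rw [← Subgroup.orderOf_mk m hm]
  exact orderOf_dvd_natCard _

theorem two_of {a b : ℕ} {x y : T} (hx : orderOf x = a) (hy : orderOf y = b) (hab : a ≠ b)
    (ha : ¬ a ∣ Nat.card R) (hb : ¬ b ∣ Nat.card R) : Two T R :=
  Two.of_orders hab hx hy (no_order ha) (no_order hb)

theorem three_of {a b c : ℕ} {x y z : T} (hx : orderOf x = a) (hy : orderOf y = b) (hz : orderOf z = c)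
    (hab : a ≠ b) (hac : a ≠ c) (hbc : b ≠ c)
    (ha : ¬ a ∣ Nat.card R) (hb : ¬ b ∣ Nat.card R) (hc : ¬ c ∣ Nat.card R) : Three T R :=
  Three.of_orders hab hac hbc hx hy hz (no_order ha) (no_order hb) (no_order hc)

theorem miss_of {a : ℕ} {x : T} (hx : orderOf x = a) (ha : ¬ a ∣ Nat.card R) : Miss T R :=
  OrdGap.miss ⟨x, fun m hm => by rw [hx]; exact no_order ha m hm⟩

/-- `Out T` of exponent two: even index is enough -/
theorem noOne_of_even [Finite T] (h : ∀ φ : MulAut T, ∃ t : T, φ * φ = MulAut.conj t)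
    (hR : 2 ∣ R.index) : NoOne T R := by
  intro s hs hd h1
  have hfin : Finite (MulAut T) := Finite.of_injective (fun f : MulAut T => (f : T → T)) DFunLike.coe_injective
  have hf : Fact s.Prime := ⟨hs⟩
  obtain ⟨x, hx⟩ := exists_prime_orderOf_dvd_card' (G := Cfsg.Out T) s hd
  obtain ⟨φ, rfl⟩ := QuotientGroup.mk_surjective x
  have h2 : (QuotientGroup.mk φ : Cfsg.Out T) ^ 2 = 1 := by
    rw [← QuotientGroup.mk_pow, QuotientGroup.eq_one_iff, pow_two]
    obtain ⟨t, ht⟩ := h φ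
    rw [ht]
    exact ⟨t, rfl⟩
  have h3 : s ∣ 2 := by rw [← hx]; exact orderOf_dvd_of_pow_eq_one h2
  have h4 : s = 2 := (Nat.prime_dvd_prime_iff_eq hs Nat.prime_two).1 h3
  rw [h4] at h1
  have h5 : R.index % 2 = 1 := h1
  omega

theorem isCoatom_of (hR : R ≠ ⊤) (h : ∀ N : Subgroup T, R < N → N ≠ ⊤ → False) : IsCoatom R := by
  refine ⟨hR, fun N hN => ?_⟩
  by_contra h1
  exact h N hN h1

theorem card_lt_of_lt [Finite T] {N : Subgroup T} (h : R < N) :
    Nat.card R ∣ Nat.card N ∧ Nat.card R < Nat.card N := by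
  have h1 := Subgroup.card_dvd_of_le h.le
  refine ⟨h1, lt_of_le_of_ne (Nat.le_of_dvd Nat.card_pos h1) fun h2 => h.ne ?_⟩
  exact Subgroup.eq_of_le_of_card_ge h.le h2.ge

end gen

section alt

variable {n : ℕ}

local notation "AA" => alternatingGroup (Fin n)

theorem eq_conjNormal {α : MulAut AA} {σ : Perm (Fin n)}
    (h : ∀ x : AA, (α x : Perm (Fin n)) = σ * x * σ⁻¹) : α = MulAut.conjNormal σ := by
  ext x : 1
  apply Subtype.ext
  rw [h x, MulAut.conjNormal_apply]

theorem conjNormal_of_even {σ : Perm (Fin n)} (h : sign σ = 1) :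
    (MulAut.conjNormal σ : MulAut AA) = MulAut.conj ⟨σ, Perm.mem_alternatingGroup.2 h⟩ := by
  ext x : 1
  apply Subtype.ext
  rw [MulAut.conjNormal_apply]
  rfl

theorem sign_eq_neg {σ : Perm (Fin n)}
    (h : ∀ t : AA, (MulAut.conjNormal σ : MulAut AA) ≠ MulAut.conj t) : sign σ = -1 := by
  rcases Int.units_eq_one_or (sign σ) with h1 | h1
  · exact absurd (conjNormal_of_even h1) (h _)
  · exact h1

/-- a coset containing two odd permutations of different orders -/
theorem cos_perm (hinj : Function.Injective (MulAut.conjNormal : Perm (Fin n) →* MulAut AA))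
    {a b : Perm (Fin n)} (ha : sign a = -1) (hb : sign b = -1) (hab : orderOf a ≠ orderOf b)
    {σ : Perm (Fin n)} (hσ : sign σ = -1) :
    ∃ t : AA, orderOf (MulAut.conj t * MulAut.conjNormal σ) ≠ orderOf (MulAut.conjNormal σ : MulAut AA) := by
  have key : ∀ c : Perm (Fin n), sign c = -1 → ∃ t : AA,
      orderOf (MulAut.conj t * MulAut.conjNormal σ) = orderOf c := by
    intro c hc
    have h1 : sign (c * σ⁻¹) = 1 := by
      rw [map_mul, map_inv, hc, hσ]; rfl
    refine ⟨⟨c * σ⁻¹, Perm.mem_alternatingGroup.2 h1⟩, ?_⟩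
    rw [← conjNormal_of_even h1, ← map_mul, inv_mul_cancel_right]
    exact orderOf_injective _ hinj c
  obtain ⟨t, ht⟩ := key a ha
  obtain ⟨u, hu⟩ := key b hb
  by_cases h : orderOf a = orderOf (MulAut.conjNormal σ : MulAut AA)
  · exact ⟨u, fun h1 => hab (by rw [h, ← h1, hu])⟩
  · exact ⟨t, fun h1 => h (by rw [← h1, ht])⟩

theorem sq_inner {φ : MulAut AA} {σ : Perm (Fin n)} (h : φ = MulAut.conjNormal σ) :
    ∃ t : AA, φ * φ = MulAut.conj t := by
  have h1 : sign (σ * σ) = 1 := by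
    rw [map_mul]
    exact Int.units_mul_self _
  refine ⟨⟨σ * σ, Perm.mem_alternatingGroup.2 h1⟩, ?_⟩
  rw [← conjNormal_of_even h1, map_mul, h]

end alt

end Cfsg.Agent.H853.Der
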