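import Cfsg.Agent.H853.Der.SubCard
import Cfsg.Agent.H853.Der.Common

/-!
# The row of `A₅` (S3502)
-/

set_option autoImplicit false

namespace Cfsg.Agent.H853.Der

open Subgroup Equiv Equiv.Perm Cfsg.Agent.H938.Sax Cfsg.Agent.H439.Der

open Cfsg.Agent.LFourA.AltPsiAut Cfsg.Agent.StandardComponent.AltAut
open Cfsg.Agent.SporadicRecognition.AltCover Cfsg.Agent.Lib.AltCarmichael

/-- two subgroups of the same order and of index prime to `p` that are `p`-groups are conjugate -/
theorem exists_conj_of_pgroup {T : Type*} [Group T] [Finite T] (p : ℕ) [hp : Fact p.Prime] {R S : Subgroup T}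
    (hR : IsPGroup p R) (hS : IsPGroup p S) (hR' : ¬ p ∣ R.index) (hS' : ¬ p ∣ S.index) :
    ∃ g : T, R.comap (MulAut.conj g).toMonoidHom = S := by
  obtain ⟨g, hg⟩ := MulAction.exists_smul_eq T (hS.toSylow hS') (hR.toSylow hR')
  refine ⟨g, ?_⟩
  have h1 : ((g • (hS.toSylow hS') : Sylow p T) : Subgroup T) = R := by rw [hg]; rfl
  ext x
  rw [Subgroup.mem_comap]
  have h2 : (MulAut.conj g).toMonoidHom x ∈ R ↔ (MulAut.conj g).toMonoidHom x ∈
      ((g • (hS.toSylow hS') : Sylow p T) : Subgroup T) := by rw [h1]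
  rw [h2, Sylow.coe_subgroup_smul, Subgroup.mem_pointwise_smul_iff_inv_smul_mem]
  have h3 : (MulAut.conj g)⁻¹ • ((MulAut.conj g).toMonoidHom x) = x := by
    rw [MulAut.smul_def]
    exact MulAut.inv_apply_self _ _ _
  rw [h3]
  rfl

section five

local notation "A5" => alternatingGroup (Fin 5)

theorem isThree_five {x : A5} (hx : orderOf x = 3) : (x : Perm (Fin 5)).IsThreeCycle := by
  have h1 : orderOf (x : Perm (Fin 5)) = 3 := by rw [Subgroup.orderOf_coe, hx]
  obtain ⟨n, hn⟩ := Equiv.Perm.cycleType_prime_order (σ := (x : Perm (Fin 5))) (by rw [h1]; norm_num)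
  have h2 := Equiv.Perm.sum_cycleType (x : Perm (Fin 5))
  have h3 : (x : Perm (Fin 5)).support.card ≤ 5 := by
    have := Finset.card_le_univ (x : Perm (Fin 5)).support
    simpa using this
  rw [hn, h1, Multiset.sum_replicate, smul_eq_mul] at h2
  have hn0 : n = 0 := by omega
  rw [Equiv.Perm.IsThreeCycle, hn, h1, hn0]
  rfl

theorem exists_perm_five (α : MulAut A5) : ∃ σ : Perm (Fin 5), α = MulAut.conjNormal σ := by
  obtain ⟨σ, hσ⟩ := exists_conj_of_three (m := 3) (by norm_num) α (fun i hi => by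
    apply isThree_five
    rw [MulEquiv.orderOf_eq, ← Subgroup.orderOf_coe]
    exact (isThreeCycle_cyc hi).orderOf)
  exact ⟨σ, eq_conjNormal hσ⟩

theorem centralizer_five : ∀ σ : Perm (Fin 5), σ * (swap 0 1 * swap 1 2) = (swap 0 1 * swap 1 2) * σ →
    σ * (swap 2 3 * swap 3 4) = (swap 2 3 * swap 3 4) * σ → σ = 1 := by decide +kernel

theorem inj_five : Function.Injective (MulAut.conjNormal : Perm (Fin 5) →* MulAut A5) := by
  rw [injective_iff_map_eq_one]
  intro σ hσ
  have key : ∀ x : A5, σ * (x : Perm (Fin 5)) = x * σ := by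
    intro x
    have h1 := congrArg (fun φ : MulAut A5 => ((φ x : A5) : Perm (Fin 5))) hσ
    have h2 : σ * (x : Perm (Fin 5)) * σ⁻¹ = x := by
      rw [← MulAut.conjNormal_apply]; exact h1
    rw [← h2, inv_mul_cancel_right, h2]
  exact centralizer_five σ (key ⟨swap 0 1 * swap 1 2, by rw [Perm.mem_alternatingGroup]; decide⟩)
    (key ⟨swap 2 3 * swap 3 4, by rw [Perm.mem_alternatingGroup]; decide⟩)

theorem order_four {G : Type*} [Group G] {x : G} (h2 : x * x ≠ 1) (h4 : x * x * (x * x) = 1) :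
    orderOf x = 4 := by
  have : Fact (Nat.Prime 2) := ⟨Nat.prime_two⟩
  have h := orderOf_eq_prime_pow (x := x) (p := 2) (n := 1) (by rwa [pow_one, pow_two])
    (by rw [show 2 ^ (1 + 1) = 2 + 2 by norm_num, pow_add, pow_two]; exact h4)
  rw [h]; norm_num

theorem order_two {G : Type*} [Group G] {x : G} (h1 : x ≠ 1) (h2 : x * x = 1) : orderOf x = 2 := by
  have : Fact (Nat.Prime 2) := ⟨Nat.prime_two⟩
  exact orderOf_eq_prime (by rwa [pow_two]) h1

theorem cos_a5 : Cos A5 := by
  intro φ hφ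
  obtain ⟨σ, rfl⟩ := exists_perm_five φ
  refine cos_perm inj_five (a := swap 0 1) (b := swap 0 1 * swap 1 2 * swap 2 3) (by decide) (by decide) ?_
    (sign_eq_neg hφ)
  rw [order_two (x := (swap 0 1 : Perm (Fin 5))) (by decide) (by decide),
    order_four (x := (swap 0 1 * swap 1 2 * swap 2 3 : Perm (Fin 5))) (by decide) (by decide)]
  norm_num

theorem sq_a5 (φ : MulAut A5) : ∃ t : A5, φ * φ = MulAut.conj t := by
  obtain ⟨σ, h⟩ := exists_perm_five φ
  exact sq_inner h

theorem x2_five : ∃ x : A5, orderOf x = 2 :=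
  ⟨⟨swap 0 1 * swap 2 3, by rw [Perm.mem_alternatingGroup]; decide⟩,
    order_two (fun h => by revert h; decide) (by apply Subtype.ext; decide)⟩

theorem x3_five : ∃ x : A5, orderOf x = 3 := by
  have : Fact (Nat.Prime 3) := ⟨Nat.prime_three⟩
  refine ⟨⟨swap 0 1 * swap 1 2, by rw [Perm.mem_alternatingGroup]; decide⟩, orderOf_eq_prime ?_ ?_⟩
  · apply Subtype.ext; decide
  · intro h; revert h; decide

theorem x5_five : ∃ x y : A5, orderOf x = 5 ∧ orderOf y = 5 ∧ ∀ g : A5, g * x * g⁻¹ ≠ y := by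
  have : Fact (Nat.Prime 5) := ⟨by norm_num⟩
  refine ⟨⟨swap 0 1 * swap 1 2 * (swap 2 3 * swap 3 4), by rw [Perm.mem_alternatingGroup]; decide⟩,
    ⟨swap 0 1 * swap 1 2 * (swap 2 3 * swap 3 4) * (swap 0 1 * swap 1 2 * (swap 2 3 * swap 3 4)), by
      rw [Perm.mem_alternatingGroup]; decide⟩, orderOf_eq_prime ?_ ?_, orderOf_eq_prime ?_ ?_, ?_⟩
  · apply Subtype.ext; decide +kernel
  · intro h; revert h; decide
  · apply Subtype.ext; decide +kernel
  · intro h; revert h; decide
  · decide +kernel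

/-- the Klein group in `Perm (Fin 5)` -/
def L4 : List (Perm (Fin 5)) := [1, swap 0 1 * swap 2 3, swap 0 2 * swap 1 3, swap 0 3 * swap 1 2]

/-- four three-cycles fixing two of the first four points -/
def Lt : List (Perm (Fin 5)) := [swap 0 1 * swap 1 4, swap 0 2 * swap 2 4, swap 0 3 * swap 3 4, swap 1 2 * swap 2 4,
  swap 1 3 * swap 3 4, swap 2 3 * swap 3 4]

theorem key_five : ∀ σ : Perm (Fin 5), sign σ = -1 → σ * (swap 0 1 * swap 2 3) * σ⁻¹ ∈ L4 →
    σ * (swap 0 2 * swap 1 3) * σ⁻¹ ∈ L4 → ∃ r ∈ L4, ∃ t ∈ Lt, r * σ * t = t * (r * σ) := by decide +kernel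

theorem Lt_even : ∀ t ∈ Lt, sign t = 1 ∧ t ∉ L4 := by decide +kernel

theorem L4_even : ∀ t ∈ L4, sign t = 1 := by decide +kernel

theorem L4_mul : ∀ a ∈ L4, ∀ b ∈ L4, a * b ∈ L4 := by decide +kernel

theorem L4_inv : ∀ a ∈ L4, a⁻¹ ∈ L4 := by decide +kernel

/-- the Klein group in `A₅` -/
def V4 : Subgroup A5 where
  carrier := {x | (x : Perm (Fin 5)) ∈ L4}
  one_mem' := by decide
  mul_mem' := fun {a b} ha hb => L4_mul _ ha _ hb
  inv_mem' := fun {a} ha => L4_inv _ ha

theorem mem_V4 {x : A5} : x ∈ V4 ↔ (x : Perm (Fin 5)) ∈ L4 := Iff.rfl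

instance instDecV4 : DecidablePred (fun x : A5 => x ∈ V4) :=
  fun x => inferInstanceAs (Decidable ((x : Perm (Fin 5)) ∈ L4))

theorem card_V4 : Nat.card V4 = 4 := by
  rw [Nat.card_eq_fintype_card]
  decide +kernel

theorem outBad_V4 : OutBadN A5 V4 := by
  intro φ hφ hV _
  obtain ⟨σ, rfl⟩ := exists_perm_five φ
  have hσ := sign_eq_neg hφ
  have key : ∀ v : Perm (Fin 5), v ∈ L4 → σ * v * σ⁻¹ ∈ L4 := by
    intro v hv
    have h1 : (⟨v, Perm.mem_alternatingGroup.2 (L4_even v hv)⟩ : A5) ∈ V4 := hv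
    have h2 : (MulAut.conjNormal σ : MulAut A5) ⟨v, Perm.mem_alternatingGroup.2 (L4_even v hv)⟩ ∈ V4 := by
      rw [← hV]
      exact ⟨_, h1, rfl⟩
    rw [mem_V4, MulAut.conjNormal_apply] at h2
    exact h2
  obtain ⟨r, hr, t, ht, hrt⟩ := key_five σ hσ (key _ (by decide)) (key _ (by decide))
  refine ⟨⟨r, Perm.mem_alternatingGroup.2 (L4_even r hr)⟩, hr,
    ⟨t, Perm.mem_alternatingGroup.2 (Lt_even t ht).1⟩, (Lt_even t ht).2, ?_⟩
  rw [mem_V4]
  have h3 : ((((⟨t, Perm.mem_alternatingGroup.2 (Lt_even t ht).1⟩ : A5)⁻¹ *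
      ((⟨r, Perm.mem_alternatingGroup.2 (L4_even r hr)⟩ : A5) *
        (MulAut.conjNormal σ : MulAut A5) ⟨t, Perm.mem_alternatingGroup.2 (Lt_even t ht).1⟩ *
        (⟨r, Perm.mem_alternatingGroup.2 (L4_even r hr)⟩ : A5)⁻¹) : A5)) : Perm (Fin 5)) =
      t⁻¹ * (r * (σ * t * σ⁻¹) * r⁻¹) := by
    rw [Subgroup.coe_mul, Subgroup.coe_mul, Subgroup.coe_mul, MulAut.conjNormal_apply]
    rfl
  rw [h3]
  have h4 : t⁻¹ * (r * (σ * t * σ⁻¹) * r⁻¹) = t⁻¹ * ((r * σ * t) * (r * σ)⁻¹) := by group
  rw [h4, hrt, mul_inv_cancel_right, inv_mul_cancel]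
  decide

theorem card_a5 : Nat.card A5 = 60 := Fx.card_A5

theorem outBad_four {R : Subgroup A5} (hR : Nat.card R = 4) : OutBadN A5 R := by
  have h2 : Fact (Nat.Prime 2) := ⟨Nat.prime_two⟩
  have hi : ∀ S : Subgroup A5, Nat.card S = 4 → ¬ 2 ∣ S.index := by
    intro S hS
    have h := S.card_mul_index
    rw [hS, card_a5] at h
    omega
  obtain ⟨g, hg⟩ := exists_conj_of_pgroup 2 (IsPGroup.of_card (n := 2) (by rw [hR]; norm_num))
    (IsPGroup.of_card (n := 2) (by rw [card_V4]; norm_num)) (hi R hR) (hi V4 card_V4)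
  refine OutBadN.congr (MulAut.conj g) ?_
  rw [hg]
  exact outBad_V4

/-- `A₄` has no subgroup of order six -/
theorem no_six {N : Type*} [Group N] [Finite N] (e : N ≃* alternatingGroup (Fin 4)) {R : Subgroup N}
    (hR : Nat.card R = 6) : False := by
  have hN : Nat.card N = 12 := (Nat.card_congr e.toEquiv).trans Fx.card_A4
  have hidx : R.index = 2 := by
    have h := R.card_mul_index
    rw [hR, hN] at h
    omega
  have h1 : Nat.card {y : N // y * y ≠ 1} = 8 := by
    rw [← Fx.a4_card]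
    refine Nat.card_congr (e.toEquiv.subtypeEquiv fun y => ?_)
    rw [not_iff_not]
    show y * y = 1 ↔ e y * e y = 1
    rw [← map_mul, map_eq_one_iff e e.injective]
  have hsub : ∀ y : N, y * y ≠ 1 → y ∈ R := by
    intro y hy
    have h3 : ∀ z : alternatingGroup (Fin 4), z * z ≠ 1 → z = (z * z) * (z * z) := by decide +kernel
    have h4 : y = (y * y) * (y * y) := by
      apply e.injective
      rw [map_mul, map_mul]
      apply h3
      rw [← map_mul]
      intro h5
      exact hy ((map_eq_one_iff e e.injective).1 h5)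
    rw [h4]
    have h5 := Subgroup.mul_self_mem_of_index_two hidx y
    exact R.mul_mem h5 h5
  have h2 : Nat.card {y : N // y * y ≠ 1} ≤ Nat.card R :=
    Nat.card_le_card_of_injective (fun y => (⟨y.1, hsub y.1 y.2⟩ : R))
      fun a b hab => Subtype.ext (congrArg (fun z : R => (z : N)) hab)
  omega

theorem rowA_a5 : RowA A5 := by
  obtain ⟨x2, h2⟩ := x2_five
  obtain ⟨x3, h3⟩ := x3_five
  obtain ⟨x5, y5, h5, h5', hn⟩ := x5_five
  refine ⟨card_a5, cos_a5, fun M hM => ?_, fun R hR hR' => ?_⟩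
  · -- maximal subgroups
    rcases sub_a5 hM.1 with h | h | h | ⟨h, _⟩
    · exact miss_of h5 fun h1 => by have := h1.trans h; omega
    · exact miss_of h5 fun h1 => by have := h1.trans h; omega
    · exact miss_of h3 fun h1 => by have := h1.trans h; omega
    · exact miss_of h5 (by rw [h]; norm_num)
  · have hidx := R.card_mul_index
    rw [card_a5] at hidx
    have hc : Nat.card R = 1 ∨ Nat.card R = 2 ∨ Nat.card R = 3 ∨ Nat.card R = 4 ∨ Nat.card R = 5 := by
      by_contra hcon
      have hle : Nat.card R ∣ 6 ∨ Nat.card R ∣ 4 ∨ Nat.card R ∣ 10 ∨ Nat.card R = 12 := by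
        rcases sub_a5 hR with h | h | h | ⟨h, _⟩ <;> simp only [h, true_or, or_true]
      have hle2 : Nat.card R ≤ 12 := by
        rcases hle with h | h | h | h
        · have := Nat.le_of_dvd (by norm_num) h; omega
        · have := Nat.le_of_dvd (by norm_num) h; omega
        · have := Nat.le_of_dvd (by norm_num) h; omega
        · exact h.le
      have hc2 : Nat.card R = 6 ∨ Nat.card R = 10 ∨ Nat.card R = 12 := by
        have hpos : 0 < Nat.card R := Nat.card_pos
        interval_cases Nat.card R <;> omega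
      apply hR'
      refine isCoatom_of hR fun N hN hN' => ?_
      obtain ⟨hd, hlt⟩ := card_lt_of_lt hN
      rcases sub_a5 hN' with h | h | h | ⟨h, ⟨e⟩⟩
      · have := Nat.le_of_dvd (by norm_num) h
        obtain ⟨j, hj⟩ := hd
        have hj1 : j ≠ 0 := by rintro rfl; omega
        have hj2 : j ≠ 1 := by rintro rfl; omega
        rcases hc2 with h6 | h6 | h6 <;> rw [h6] at hj hlt <;> omega
      · have := Nat.le_of_dvd (by norm_num) h
        rcases hc2 with h6 | h6 | h6 <;> rw [h6] at hlt <;> omega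
      · have := Nat.le_of_dvd (by norm_num) h
        obtain ⟨j, hj⟩ := hd
        rcases hc2 with h6 | h6 | h6 <;> rw [h6] at hj hlt
        · have : j = 1 := by omega
          omega
        · omega
        · omega
      · rcases hc2 with h6 | h6 | h6
        · exact no_six e (R := R.subgroupOf N) (by
            rw [← h6]; exact Nat.card_congr (Subgroup.subgroupOfEquivOfLe hN.le).toEquiv)
        · rw [h, h6] at hd
          omega
        · omega
    rcases hc with h | h | h | h | h <;> rw [h] at hidx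
    · refine Or.inl (Or.inr ⟨threeT_of h3 h5 h5' (by norm_num) hn (by rw [h]; norm_num) (by rw [h]; norm_num),
        two_of h3 h5 (by norm_num) (by rw [h]; norm_num) (by rw [h]; norm_num),
        Or.inl (noOne_of_even sq_a5 (by omega))⟩)
    · refine Or.inl (Or.inr ⟨threeT_of h3 h5 h5' (by norm_num) hn (by rw [h]; norm_num) (by rw [h]; norm_num),
        two_of h3 h5 (by norm_num) (by rw [h]; norm_num) (by rw [h]; norm_num),
        Or.inl (noOne_of_even sq_a5 (by omega))⟩)
    · refine Or.inl (Or.inr ⟨threeT_of h2 h5 h5' (by norm_num) hn (by rw [h]; norm_num) (by rw [h]; norm_num),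
        two_of h2 h5 (by norm_num) (by rw [h]; norm_num) (by rw [h]; norm_num),
        Or.inl (noOne_of_even sq_a5 (by omega))⟩)
    · refine Or.inl (Or.inr ⟨threeT_of h3 h5 h5' (by norm_num) hn (by rw [h]; norm_num) (by rw [h]; norm_num),
        two_of h3 h5 (by norm_num) (by rw [h]; norm_num) (by rw [h]; norm_num),
        Or.inr (outBad_four h)⟩)
    · refine Or.inr ⟨by omega, two_of h2 h3 (by norm_num) (by rw [h]; norm_num) (by rw [h]; norm_num),
        noOne_of_even sq_a5 (by omega)⟩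

end five

end Cfsg.Agent.H853.Der
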