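import Cfsg.Agent.H853.Der.ASixB

/-!
# `A₆` (S3502): `Cos`, subgroups of order eight and twelve, and the row
-/

set_option autoImplicit false

namespace Cfsg.Agent.H853.Der

open Subgroup Equiv Equiv.Perm Cfsg.Agent.H938.Sax Cfsg.Agent.H439.Der

open Cfsg.Agent.LFourA.AltPsiAut

theorem conj_inj {a b : A6} (h : (MulAut.conj a : MulAut A6) = MulAut.conj b) : a = b := by
  rw [← MulAut.conjNormal_val, ← MulAut.conjNormal_val] at h
  exact Subtype.ext (inj_six h)

theorem cos_a6 : Cos A6 := by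
  intro φ hφ
  -- it is enough to find two elements of the coset with different orders
  have key : ∀ t u : A6, ∀ k : ℕ, (MulAut.conj t * φ) ^ k = 1 → (MulAut.conj u * φ) ^ k ≠ 1 →
      ∃ t : A6, orderOf (MulAut.conj t * φ) ≠ orderOf φ := by
    intro t u k h1 h2
    by_contra hcon
    push Not at hcon
    apply h2
    rw [← orderOf_dvd_iff_pow_eq_one] at h1 ⊢
    rw [hcon u, ← hcon t]
    exact h1
  have hmul : ∀ (a : A6) (y : MulAut A6), (MulAut.conj a * y) * (MulAut.conj a * y) =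
      MulAut.conj (a * y a) * (y * y) := by
    intro a y
    ext x : 1
    simp only [MulAut.mul_apply, MulAut.conj_apply, map_mul, map_inv, _root_.mul_inv_rev, mul_assoc]
  obtain ⟨g, hg⟩ := conj_c4 (x := φ c4) (by rw [MulEquiv.orderOf_eq, order_c4])
  obtain ⟨y, hy⟩ : ∃ y : MulAut A6, y = MulAut.conj g * φ := ⟨_, rfl⟩
  have hyc : y c4 = c4 := by rw [hy]; exact hg
  have hcos : ∀ a : A6, MulAut.conj (a * g) * φ = MulAut.conj a * y := by
    intro a
    rw [hy, map_mul, mul_assoc]
  have hcc : (c4 * c4)⁻¹ = c4 * c4 := inv_eq_of_mul_eq_one_left c4_four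
  obtain ⟨u, hu⟩ := sq_a6 y
  have huc : u * c4 = c4 * u := by
    have h1 : (y * y) c4 = c4 := by rw [MulAut.mul_apply, hyc, hyc]
    rw [hu, MulAut.conj_apply] at h1
    exact mul_inv_eq_iff_eq_mul.1 h1
  have hne : (MulAut.conj (c4 * c4) : MulAut A6) ≠ 1 := by
    intro h
    rw [← map_one MulAut.conj] at h
    exact c4_sq (conj_inj h)
  have case3 : u * u = c4 * c4 → ∃ t : A6, orderOf (MulAut.conj t * φ) ≠ orderOf φ := by
    intro huu
    obtain ⟨d, hd⟩ := c4_real
    obtain ⟨z, hz⟩ : ∃ z : MulAut A6, z = MulAut.conj d * y := ⟨_, rfl⟩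
    have hzc : z c4 = c4⁻¹ := by rw [hz, MulAut.mul_apply, hyc, MulAut.conj_apply, hd]
    obtain ⟨v, hv⟩ := sq_a6 z
    have hvc : v * c4 = c4 * v := by
      have h1 : (z * z) c4 = c4 := by rw [MulAut.mul_apply, hzc, map_inv, hzc, inv_inv]
      rw [hv, MulAut.conj_apply] at h1
      exact mul_inv_eq_iff_eq_mul.1 h1
    have hzv : z v = v := by
      apply conj_inj
      have h1 : MulAut.conj (z v) = z * MulAut.conj v * z⁻¹ := by
        ext x : 1
        simp [MulAut.mul_apply]
      rw [h1, ← hv]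
      group
    have hvv : v * v = 1 := by
      have h5 : c4⁻¹ ≠ c4 := fun h => c4_sq (by
        have := congrArg (c4 * ·) h
        rw [mul_inv_cancel] at this
        exact this.symm)
      rcases cent_c4 hvc with h | h | h | h
      · rw [h, mul_one]
      · rw [h, hzc] at hzv
        exact absurd hzv h5
      · rw [h]; exact c4_four
      · rw [h, map_inv, hzc, inv_inv] at hzv
        exact absurd hzv.symm h5
    refine key (d * g) g 4 ?_ ?_
    · rw [hcos, ← hz, show 4 = 2 + 2 by norm_num, pow_add, pow_two, hv, ← map_mul, hvv, map_one]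
    · rw [← hy, show 4 = 2 + 2 by norm_num, pow_add, pow_two, hu, ← map_mul, huu]
      exact hne
  rcases cent_c4 huc with h | h | h | h
  · rw [h, map_one] at hu
    refine key g (c4 * g) 2 ?_ ?_
    · rw [← hy, pow_two, hu]
    · rw [hcos, pow_two, hmul, hu, mul_one, hyc]
      exact hne
  · exact case3 (by rw [h])
  · rw [h] at hu
    refine key (c4⁻¹ * g) g 2 ?_ ?_
    · rw [hcos, pow_two, hmul, hu, map_inv, hyc, ← map_mul, ← _root_.mul_inv_rev, inv_mul_cancel, map_one]
    · rw [← hy, pow_two, hu]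
      exact hne
  · exact case3 (by rw [h, ← _root_.mul_inv_rev, hcc])

/-- no element of order six -/
theorem no_order_six {x : A6} (hx : orderOf x = 6) : False := by
  have h6 := pow_orderOf_eq_one x
  rw [hx] at h6
  have h7 : x ^ 6 = x * x * x * (x * x * x) := by
    simp only [pow_succ, pow_zero, one_mul, mul_assoc]
  rw [h7] at h6
  have h := no_six_order x (Perm.mem_alternatingGroup.1 x.2) (congrArg Subtype.val h6)
  rcases h with h | h
  · have h1 : x ^ 2 = 1 := Subtype.ext (by rw [pow_two]; exact h)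
    have := orderOf_dvd_of_pow_eq_one h1
    rw [hx] at this
    omega
  · have h1 : x ^ 3 = 1 := Subtype.ext (by rw [pow_succ, pow_two]; exact h)
    have := orderOf_dvd_of_pow_eq_one h1
    rw [hx] at this
    omega

/-- a group of order twelve with an element of order four has an element of order six -/
theorem exists_six {G : Type*} [Group G] [Finite G] (hG : Nat.card G = 12) {x : G} (hx : orderOf x = 4) :
    ∃ y : G, orderOf y = 6 := by
  have h2 : Fact (Nat.Prime 2) := ⟨Nat.prime_two⟩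
  have h3 : Fact (Nat.Prime 3) := ⟨Nat.prime_three⟩
  obtain ⟨K, hK⟩ : ∃ K : Subgroup G, K = (zpowers x).normalCore := ⟨_, rfl⟩
  have hKn : K.Normal := by rw [hK]; exact Subgroup.normalCore_normal _
  have hKle : K ≤ zpowers x := by rw [hK]; exact Subgroup.normalCore_le _
  have hcK := K.card_mul_index
  have hidx : (zpowers x).index = 3 := by
    have h := (zpowers x).card_mul_index
    rw [Nat.card_zpowers, hx, hG] at h
    omega
  have hKi : K.index ∣ 6 := by
    rw [hK, Subgroup.normalCore_eq_ker, Subgroup.index_ker]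
    have h1 := Subgroup.card_subgroup_dvd_card (MulAction.toPermHom G (G ⧸ zpowers x)).range
    have h4 : Nat.card (Perm (G ⧸ zpowers x)) = 6 := by
      rw [Nat.card_perm]
      have h5 : Nat.card (G ⧸ zpowers x) = 3 := hidx
      rw [h5]
      rfl
    rwa [h4] at h1
  have hK2 : 2 ∣ Nat.card K := by
    rw [hG] at hcK
    obtain ⟨j, hj⟩ := hKi
    have h1 : Nat.card K = 2 * j := by
      have h2 : Nat.card K * K.index = (2 * j) * K.index := by rw [hcK]; linarith
      exact Nat.eq_of_mul_eq_mul_right (Nat.pos_of_ne_zero fun h => by rw [h] at hcK; omega) h2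
    exact ⟨j, h1⟩
  obtain ⟨z0, hz0⟩ := exists_prime_orderOf_dvd_card' (G := K) 2 hK2
  -- the elements of order two of `⟨x⟩`
  have huniq : ∀ z ∈ zpowers x, orderOf z = 2 → z = x ^ 2 := by
    intro z hz hz2
    obtain ⟨i, rfl⟩ := mem_zpowers_iff.1 hz
    have h1 : (x ^ i) ^ 2 = 1 := by rw [← hz2]; exact pow_orderOf_eq_one _
    have h4 : (4 : ℤ) ∣ i * 2 := by
      rw [← zpow_natCast, ← zpow_mul] at h1
      have := orderOf_dvd_iff_zpow_eq_one.2 h1
      rw [hx] at this
      exact_mod_cast this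
    have h5 : ¬ (4 : ℤ) ∣ i := by
      intro h
      have h6 : x ^ i = 1 := by
        apply orderOf_dvd_iff_zpow_eq_one.1
        rw [hx]
        exact_mod_cast h
      rw [h6, orderOf_one] at hz2
      omega
    obtain ⟨j, hj⟩ : ∃ j : ℤ, i = 2 + 4 * j := ⟨(i - 2) / 4, by omega⟩
    rw [hj, zpow_add, zpow_mul]
    have h7 : x ^ (4 : ℤ) = 1 := by
      have := pow_orderOf_eq_one x
      rw [hx] at this
      exact_mod_cast this
    rw [h7, one_zpow, mul_one]
    norm_cast
  have hzK : (z0 : G) ∈ K := z0.2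
  have hz2 : orderOf (z0 : G) = 2 := by rw [Subgroup.orderOf_coe, hz0]
  have hzx : (z0 : G) = x ^ 2 := huniq _ (hKle hzK) hz2
  obtain ⟨y, hy⟩ := exists_prime_orderOf_dvd_card' (G := G) 3 (by rw [hG]; norm_num)
  have hyz : y * z0 * y⁻¹ = z0 := by
    have h1 : y * z0 * y⁻¹ ∈ K := hKn.conj_mem _ hzK y
    have h4 : orderOf (y * (z0 : G) * y⁻¹) = 2 := by
      rw [← hz2]; exact orderOf_mulEquiv (MulAut.conj y) _
    rw [huniq _ (hKle h1) h4, hzx]
  have hc : Commute (y : G) z0 := by
    rw [mul_inv_eq_iff_eq_mul] at hyz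
    exact hyz
  refine ⟨y * z0, ?_⟩
  rw [hc.orderOf_mul_eq_mul_orderOf_of_coprime (by rw [hy, hz2]; norm_num), hy, hz2]

theorem no_four_twelve {R : Subgroup A6} (hR : Nat.card R = 12) : ∀ m ∈ R, orderOf m ≠ 4 := by
  intro m hm h4
  obtain ⟨y, hy⟩ := exists_six hR (x := (⟨m, hm⟩ : R)) (by rw [Subgroup.orderOf_mk, h4])
  exact no_order_six (x := (y : A6)) (by rw [Subgroup.orderOf_coe, hy])

theorem outBad_D8 {φ : MulAut A6} (hφ : ∀ t : A6, φ ≠ MulAut.conj t) (hV : D8.map φ.toMonoidHom = D8)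
    (hNE : φ ∈ NE) : ∃ r ∈ D8, ∃ t : A6, t ∉ D8 ∧ t⁻¹ * (r * φ t * r⁻¹) ∈ D8 := by
  obtain ⟨σ, rfl⟩ := exists_conjNormal hNE
  have hσ := sign_eq_neg hφ
  have key : ∀ v : Perm (Fin 6), v ∈ L8 → σ * v * σ⁻¹ ∈ L8 := by
    intro v hv
    have h1 : (⟨v, Perm.mem_alternatingGroup.2 (L8_even v hv)⟩ : A6) ∈ D8 := hv
    have h2 : (MulAut.conjNormal σ : MulAut A6) ⟨v, Perm.mem_alternatingGroup.2 (L8_even v hv)⟩ ∈ D8 := by
      rw [← hV]
      exact ⟨_, h1, rfl⟩
    rw [mem_D8, MulAut.conjNormal_apply] at h2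
    exact h2
  obtain ⟨r, hr, hrσ⟩ := key_six σ hσ (key _ (by decide +kernel)) (key _ (by decide +kernel))
  refine ⟨⟨r, Perm.mem_alternatingGroup.2 (L8_even r hr)⟩, hr, u3, by decide +kernel, ?_⟩
  rw [mem_D8]
  have h3 : (((u3⁻¹ * ((⟨r, Perm.mem_alternatingGroup.2 (L8_even r hr)⟩ : A6) *
      (MulAut.conjNormal σ : MulAut A6) u3 *
        (⟨r, Perm.mem_alternatingGroup.2 (L8_even r hr)⟩ : A6)⁻¹) : A6)) : Perm (Fin 6)) =
      (u3 : Perm (Fin 6))⁻¹ * (r * (σ * u3 * σ⁻¹) * r⁻¹) := by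
    rw [Subgroup.coe_mul, Subgroup.coe_mul, Subgroup.coe_mul, MulAut.conjNormal_apply]
    rfl
  rw [h3]
  have h4 : (u3 : Perm (Fin 6))⁻¹ * (r * (σ * u3 * σ⁻¹) * r⁻¹) =
      (u3 : Perm (Fin 6))⁻¹ * ((r * σ) * u3 * (r * σ)⁻¹) := by group
  rw [h4, hrσ]
  decide +kernel

/-- an automorphism leaving a subgroup of order 24 invariant is not exotic -/
theorem mem_NE_of_24 {φ : MulAut A6} {N : Subgroup A6} (hN : Nat.card N = 24)
    (hφ : N.map φ.toMonoidHom = N) : φ ∈ NE := by
  have h3 : Fact (Nat.Prime 3) := ⟨Nat.prime_three⟩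
  obtain ⟨x, hx⟩ := exists_prime_orderOf_dvd_card' (G := N) 3 (by rw [hN]; norm_num)
  have hφx : φ x ∈ N := by
    have : φ.toMonoidHom x ∈ N.map φ.toMonoidHom := ⟨_, x.2, rfl⟩
    rwa [hφ] at this
  have hxo : orderOf (x : A6) = 3 := by rw [Subgroup.orderOf_coe, hx]
  obtain ⟨y, hy⟩ : ∃ y : N, y = ⟨φ x, hφx⟩ := ⟨_, rfl⟩
  have hyo : orderOf y = 3 := by rw [hy, Subgroup.orderOf_mk, MulEquiv.orderOf_eq, hxo]
  have hz : ∀ z : N, orderOf z = 3 → IsPGroup 3 (zpowers z) ∧ ¬ 3 ∣ (zpowers z).index := by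
    intro z hz
    refine ⟨IsPGroup.of_card (n := 1) (by rw [Nat.card_zpowers, hz, pow_one]), ?_⟩
    have h := (zpowers z).card_mul_index
    rw [Nat.card_zpowers, hz, hN] at h
    omega
  obtain ⟨g, hg⟩ := exists_conj_of_pgroup 3 (hz x hx).1 (hz y hyo).1 (hz x hx).2 (hz y hyo).2
  have h1 : g * y * g⁻¹ ∈ zpowers x := by
    have : y ∈ (zpowers x).comap (MulAut.conj g).toMonoidHom := by rw [hg]; exact mem_zpowers y
    exact this
  obtain ⟨i, hi⟩ := mem_zpowers_iff.1 h1
  -- the cycle types agree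
  have htype : (φ x : A6).1.cycleType = (x : A6).1.cycleType := by
    have h2 : ((g * y * g⁻¹ : N) : A6) = (x : A6) ^ i := by rw [← hi]; rfl
    have h4 : ((g : A6) : Perm (Fin 6)) * ((φ x : A6) : Perm (Fin 6)) * ((g : A6) : Perm (Fin 6))⁻¹ =
        ((x : A6) : Perm (Fin 6)) ^ i := by
      have h5 := congrArg (fun t : A6 => (t : Perm (Fin 6))) h2
      rw [hy] at h5
      exact h5
    have h6 : (((x : A6) : Perm (Fin 6)) ^ i).cycleType = (φ x : A6).1.cycleType := by
      rw [← h4, cycleType_conj]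
    rw [← h6]
    have hx3 : ((x : A6) : Perm (Fin 6)) ^ (3 : ℤ) = 1 := by
      have h7 := pow_orderOf_eq_one (x : A6)
      rw [hxo] at h7
      have h8 := congrArg (fun t : A6 => (t : Perm (Fin 6))) h7
      exact_mod_cast h8
    have hcases : ∃ j : ℤ, i = 3 * j ∨ i = 3 * j + 1 ∨ i = 3 * j + (-1) := by
      rcases (by omega : i % 3 = 0 ∨ i % 3 = 1 ∨ i % 3 = 2) with h | h | h
      · exact ⟨i / 3, Or.inl (by omega)⟩
      · exact ⟨i / 3, Or.inr (Or.inl (by omega))⟩
      · exact ⟨i / 3 + 1, Or.inr (Or.inr (by omega))⟩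
    obtain ⟨j, h | h | h⟩ := hcases
    · exfalso
      rw [h, zpow_mul, hx3, one_zpow] at h4
      have h9 : ((φ x : A6) : Perm (Fin 6)) = 1 := by
        rw [mul_inv_eq_one, mul_eq_left] at h4
        exact h4
      have h10 : orderOf (φ x : A6) = 1 := by rw [← Subgroup.orderOf_coe, h9, orderOf_one]
      rw [MulEquiv.orderOf_eq, hxo] at h10
      omega
    · rw [h, zpow_add, zpow_mul, hx3, one_zpow, one_mul, zpow_one]
    · rw [h, zpow_add, zpow_mul, hx3, one_zpow, one_mul, zpow_neg_one, cycleType_inv]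
  by_contra hne
  rcases three_or hxo with h | h
  · have h2 := type_of_not_mem hne h
    rw [htype, h] at h2
    revert h2; decide
  · have h2 := three_of_not_mem hne h
    rw [IsThreeCycle, htype, h] at h2
    revert h2; decide

theorem outBad_eight {R : Subgroup A6} (hR : Nat.card R = 8) : OutBadN A6 R := by
  have h2 : Fact (Nat.Prime 2) := ⟨Nat.prime_two⟩
  have hi : ∀ S : Subgroup A6, Nat.card S = 8 → ¬ 2 ∣ S.index := by
    intro S hS
    have h := S.card_mul_index
    rw [hS, card_a6] at h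
    omega
  obtain ⟨g, hg⟩ := exists_conj_of_pgroup 2 (IsPGroup.of_card (n := 3) (by rw [hR]; norm_num))
    (IsPGroup.of_card (n := 3) (by rw [card_D8]; norm_num)) (hi R hR) (hi D8 card_D8)
  refine OutBadN.congr (MulAut.conj g) ?_
  rw [hg]
  intro φ hφ hV hN
  refine outBad_D8 hφ hV ?_
  obtain ⟨N, hN1, hN2, hN3⟩ := hN
  obtain ⟨hd, hlt⟩ := card_lt_of_lt hN1
  rw [card_D8] at hd hlt
  refine mem_NE_of_24 (N := N) ?_ hN3
  rcases sub_a6 hN2.ne with h | h | h | h | ⟨h, _⟩
  · exact absurd (Nat.le_of_dvd (by norm_num) h) (not_le.2 hlt)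
  · have := hd.trans h; omega
  · have := hd.trans h; omega
  · exact h
  · rw [h] at hd; omega

/-- the cyclic and other subgroups: two classes of elements of order `b`, one of order `a` missing, even index -/
theorem fin3_of {R : Subgroup A6} {a b : ℕ} {x y z : A6} (hx : orderOf x = a) (hy : orderOf y = b)
    (hz : orderOf z = b) (hyz : ∀ g : A6, g * y * g⁻¹ ≠ z) (hab : a ≠ b) (ha : ∀ m ∈ R, orderOf m ≠ a)
    (hb : ¬ b ∣ Nat.card R) (hi : 2 ∣ R.index) : Fin3 A6 R :=
  Or.inr ⟨threeT_of' hx hy hz hab hyz ha hb, Two.of_orders hab hx hy ha (no_order hb),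
    Or.inl (noOne_of_even sq_a6 hi)⟩

theorem rowW_a6 : RowW A6 := by
  obtain ⟨x3, y3, h3, h3', hn3⟩ := y3_six
  obtain ⟨x5, y5, h5, h5', hn5⟩ := y5_six
  refine ⟨Or.inr ⟨cos_a6, fun M hM => ?_⟩, fun R hR hR' => ?_⟩
  · -- maximal subgroups
    rcases sub_a6 hM.1 with h | h | h | h | ⟨h, ⟨e⟩⟩
    · exact miss_of h5 fun h1 => by have := h1.trans h; omega
    · exact miss_of h3 fun h1 => by have := h1.trans h; omega
    · exact miss_of h5 fun h1 => by have := h1.trans h; omega
    · exact miss_of h5 (by rw [h]; norm_num)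
    · refine OrdGap.miss ⟨c4, fun m hm h4 => ?_⟩
      rw [order_c4] at h4
      have h6 : orderOf (e ⟨m, hm⟩) = 4 := by rw [MulEquiv.orderOf_eq, Subgroup.orderOf_mk, h4]
      have h7 := pow_orderOf_eq_one (e ⟨m, hm⟩)
      rw [h6] at h7
      have h8 : (e ⟨m, hm⟩) ^ 4 = e ⟨m, hm⟩ * e ⟨m, hm⟩ * (e ⟨m, hm⟩ * e ⟨m, hm⟩) := by
        simp only [pow_succ, pow_zero, one_mul, mul_assoc]
      rw [h8] at h7
      have h9 := no_four_a5 _ h7
      rw [← pow_two] at h9
      have h10 := orderOf_dvd_of_pow_eq_one h9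
      rw [h6] at h10
      omega
  · have hidx := R.card_mul_index
    rw [card_a6] at hidx
    have hpos : 0 < Nat.card R := Nat.card_pos
    have h36 : Nat.card R ≠ 36 ∧ Nat.card R ≠ 24 ∧ Nat.card R ≠ 60 := by
      by_contra hcon
      have hc2 : Nat.card R = 36 ∨ Nat.card R = 24 ∨ Nat.card R = 60 := by tauto
      apply hR'
      refine isCoatom_of hR fun N hN hN' => ?_
      obtain ⟨hd, hlt⟩ := card_lt_of_lt hN
      obtain ⟨j, hj⟩ := hd
      have hN2 : Nat.card N ∣ 8 ∨ Nat.card N ∣ 10 ∨ Nat.card N ∣ 36 ∨ Nat.card N = 24 ∨ Nat.card N = 60 := by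
        rcases sub_a6 hN' with h | h | h | h | ⟨h, _⟩ <;> simp only [h, true_or, or_true]
      rcases hc2 with h6 | h6 | h6 <;> rw [h6] at hj hlt <;> rcases hN2 with h | h | h | h | h
      all_goals first
        | exact absurd (Nat.le_of_dvd (by norm_num) h) (by omega)
        | omega
    have hc : Nat.card R ∣ 8 ∨ Nat.card R ∣ 10 ∨ (Nat.card R ∣ 36 ∧ Nat.card R ≠ 4) := by
      rcases sub_a6 hR with h | h | h | h | ⟨h, _⟩
      · exact Or.inl h
      · exact Or.inr (Or.inl h)
      · by_cases h4 : Nat.card R = 4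
        · exact Or.inl (by rw [h4]; norm_num)
        · exact Or.inr (Or.inr ⟨h, h4⟩)
      · exact absurd h h36.2.1
      · exact absurd h h36.2.2
    rcases hc with h | h | ⟨h, h4⟩
    · -- a 2-group
      by_cases h8 : Nat.card R = 8
      · exact Or.inr ⟨threeT_of h3 h5 h5' (by norm_num) hn5 (by rw [h8]; norm_num) (by rw [h8]; norm_num),
          two_of h3 h5 (by norm_num) (by rw [h8]; norm_num) (by rw [h8]; norm_num), Or.inr (outBad_eight h8)⟩
      · have h4 : Nat.card R ∣ 4 := by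
          have := Nat.le_of_dvd (by norm_num) h
          interval_cases hk : Nat.card R <;> omega
        refine fin3_of h3 h5 h5' hn5 (by norm_num) (no_order fun h1 => by have := h1.trans h; omega)
          (fun h1 => by have := h1.trans h; omega) ?_
        obtain ⟨j, hj⟩ := h4
        have h9 : Nat.card R * R.index = Nat.card R * (90 * j) := by rw [hidx]; linarith
        rw [Nat.eq_of_mul_eq_mul_left hpos h9]
        omega
    · refine fin3_of order_c4 h3 h3' hn3 (by norm_num) (no_order fun h1 => by have := h1.trans h; omega)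
        (fun h1 => by have := h1.trans h; omega) ?_
      obtain ⟨j, hj⟩ := h
      have h9 : Nat.card R * R.index = Nat.card R * (36 * j) := by rw [hidx]; linarith
      rw [Nat.eq_of_mul_eq_mul_left hpos h9]
      omega
    · refine fin3_of order_c4 h5 h5' hn5 (by norm_num) ?_ (fun h1 => by have := h1.trans h; omega) ?_
      · by_cases h12 : Nat.card R = 12
        · exact no_four_twelve h12
        · apply no_order
          intro h1
          have := Nat.le_of_dvd (by norm_num) h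
          interval_cases hk : Nat.card R <;> omega
      · obtain ⟨j, hj⟩ := h
        have h9 : Nat.card R * R.index = Nat.card R * (10 * j) := by rw [hidx]; linarith
        rw [Nat.eq_of_mul_eq_mul_left hpos h9]
        omega

end Cfsg.Agent.H853.Der
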