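import Cfsg.Agent.H853.Der.AFive

/-!
# `A₆` (S3502): automorphisms, outer cosets
-/

set_option autoImplicit false

namespace Cfsg.Agent.H853.Der

open Subgroup Equiv Equiv.Perm Cfsg.Agent.H938.Sax Cfsg.Agent.H439.Der

open Cfsg.Agent.LFourA.AltPsiAut

/-- an automorphism that is not in `NE` maps elements of type `{3,3}` to three-cycles -/
theorem three_of_not_mem {α : MulAut A6} (hα : α ∉ NE) {w : A6} (hw : (w : Perm (Fin 6)).cycleType = {3, 3}) :
    (α w : Perm (Fin 6)).IsThreeCycle := by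
  have h1 : α⁻¹ ∉ NE := fun h => hα (inv_mem_iff.1 h)
  obtain ⟨g, hg⟩ := exists_conj_33 (type_of_not_mem h1 u3_three) hw
  rw [← hg, map_mul, map_mul, map_inv, MulAut.apply_inv_self]
  exact isThreeCycle_conj.2 u3_three

theorem conjNormal_mem_NE (σ : Perm (Fin 6)) : (MulAut.conjNormal σ : MulAut A6) ∈ NE := by
  intro x hx
  rw [MulAut.conjNormal_apply]
  exact isThreeCycle_conj.2 hx

theorem exists_conjNormal {α : MulAut A6} (hα : α ∈ NE) : ∃ σ : Perm (Fin 6), α = MulAut.conjNormal σ := by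
  obtain ⟨σ, hσ⟩ := exists_perm hα
  exact ⟨σ, eq_conjNormal hσ⟩

theorem not_exo : ∀ σ : Perm (Fin 6), σ * (swap 0 1 * swap 2 3) * σ⁻¹ = swap 0 1 * swap 2 3 →
    σ * (swap 0 2 * swap 1 3) * σ⁻¹ ≠ swap 0 1 * swap 4 5 := by decide +kernel

theorem cent_three : ∀ σ : Perm (Fin 6), σ * (swap 0 1 * swap 2 3) * σ⁻¹ = swap 0 1 * swap 2 3 →
    σ * (swap 0 2 * swap 1 3) * σ⁻¹ = swap 0 2 * swap 1 3 →
    σ * (swap 0 1 * swap 4 5) * σ⁻¹ = swap 0 1 * swap 4 5 → sign σ = -1 →
    σ = swap 4 5 ∨ σ = swap 0 1 * swap 2 3 * swap 4 5 := by decide +kernel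

theorem cent_t2 : ∀ x : Perm (Fin 6), swap 4 5 * x * (swap 4 5)⁻¹ = x → x * x * x = 1 →
    x.support.card ≠ 6 := by decide +kernel

theorem cent_t222 : ∀ x : Perm (Fin 6),
    swap 0 1 * swap 2 3 * swap 4 5 * x * (swap 0 1 * swap 2 3 * swap 4 5)⁻¹ = x → x * x * x = 1 →
    x.support.card ≠ 3 := by decide +kernel

theorem centralizer_six : ∀ σ : Perm (Fin 6), σ * (swap 0 1 * swap 1 2) = (swap 0 1 * swap 1 2) * σ →
    σ * (swap 2 3 * swap 3 4) = (swap 2 3 * swap 3 4) * σ →
    σ * (swap 3 4 * swap 4 5) = (swap 3 4 * swap 4 5) * σ → σ = 1 := by decide +kernel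

theorem inj_six : Function.Injective (MulAut.conjNormal : Perm (Fin 6) →* MulAut A6) := by
  rw [injective_iff_map_eq_one]
  intro σ hσ
  have key : ∀ x : A6, σ * (x : Perm (Fin 6)) = x * σ := by
    intro x
    have h1 := congrArg (fun φ : MulAut A6 => ((φ x : A6) : Perm (Fin 6))) hσ
    have h2 : σ * (x : Perm (Fin 6)) * σ⁻¹ = x := by
      rw [← MulAut.conjNormal_apply]; exact h1
    rw [← h2, inv_mul_cancel_right, h2]
  exact centralizer_six σ (key ⟨swap 0 1 * swap 1 2, by rw [Perm.mem_alternatingGroup]; decide⟩)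
    (key ⟨swap 2 3 * swap 3 4, by rw [Perm.mem_alternatingGroup]; decide⟩)
    (key ⟨swap 3 4 * swap 4 5, by rw [Perm.mem_alternatingGroup]; decide⟩)

theorem mul_cube_one {x : A6} (hx : orderOf x = 3) :
    (x : Perm (Fin 6)) * (x : Perm (Fin 6)) * (x : Perm (Fin 6)) = 1 := by
  have h := pow_orderOf_eq_one x
  rw [hx, pow_succ, pow_two] at h
  exact congrArg Subtype.val h

/-- an exotic automorphism with inner square -/
theorem exists_exo_sq : ∃ ε : MulAut A6, ε ∉ NE ∧ ∃ σ : Perm (Fin 6), sign σ = 1 ∧ ε * ε = MulAut.conjNormal σ := by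
  obtain ⟨ε, ha, hb, hd⟩ := exists_exo
  have hne : ε ∉ NE := by
    intro h
    obtain ⟨σ, hσ⟩ := exists_perm h
    have h1 := hσ sa
    have h2 := hσ sb
    rw [ha] at h1
    rw [hb] at h2
    exact not_exo σ h1.symm h2.symm
  refine ⟨ε, hne, ?_⟩
  have h2 : ε * ε ∈ NE := mem_NE_of_fix (by rw [MulAut.mul_apply, ha, ha]) (by rw [MulAut.mul_apply, hb, hd])
  obtain ⟨τ, hτ⟩ := exists_perm h2
  rcases Int.units_eq_one_or (sign τ) with hs | hs
  · exact ⟨τ, hs, eq_conjNormal hτ⟩
  exfalso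
  have e1 := hτ sa
  have e2 := hτ sb
  have e3 := hτ sd
  rw [MulAut.mul_apply, ha, ha] at e1
  rw [MulAut.mul_apply, hb, hd] at e2
  rw [MulAut.mul_apply, hd, hb] at e3
  -- `ε` commutes with its square
  have hcomm : ∀ x : A6, τ * (x : Perm (Fin 6)) * τ⁻¹ = x →
      τ * ((ε x : A6) : Perm (Fin 6)) * τ⁻¹ = (ε x : A6) := by
    intro x hx
    rw [← hτ (ε x)]
    have h3 : (ε * ε) x = x := Subtype.ext (by rw [hτ x]; exact hx)
    have h4 : (ε * ε) (ε x) = ε ((ε * ε) x) := rfl
    rw [h4, h3]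
  rcases cent_three τ e1.symm e2.symm e3.symm hs with h | h
  · subst h
    have h5 := hcomm u3 (by decide)
    have h6 := type_of_not_mem hne u3_three
    have h7 : orderOf (ε u3) = 3 := by
      rw [MulEquiv.orderOf_eq, ← Subgroup.orderOf_coe]; exact u3_three.orderOf
    refine cent_t2 _ h5 (mul_cube_one h7) ?_
    rw [← Equiv.Perm.sum_cycleType, h6]
    rfl
  · subst h
    obtain ⟨w, hw⟩ : ∃ w : A6, (w : Perm (Fin 6)) = swap 0 2 * swap 2 4 * (swap 1 3 * swap 3 5) :=
      ⟨⟨_, by rw [Perm.mem_alternatingGroup]; decide⟩, rfl⟩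
    have hf : Fact (Nat.Prime 3) := ⟨Nat.prime_three⟩
    have hwo : orderOf w = 3 := by
      rw [← Subgroup.orderOf_coe, hw]
      exact orderOf_eq_prime (by decide) (by decide)
    have h5 := hcomm w (by rw [hw]; decide)
    have h8 : (w : Perm (Fin 6)).cycleType = {3, 3} := by
      rcases three_or hwo with h | h
      · exfalso
        have h9 := h.card_support
        rw [hw] at h9
        revert h9; decide
      · exact h
    have h6 := three_of_not_mem hne h8
    have h7 : orderOf (ε w) = 3 := by rw [MulEquiv.orderOf_eq, hwo]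
    exact cent_t222 _ h5 (mul_cube_one h7) h6.card_support

/-- all squares in `Aut A₆` are inner -/
theorem sq_a6 (φ : MulAut A6) : ∃ t : A6, φ * φ = MulAut.conj t := by
  by_cases hφ : φ ∈ NE
  · obtain ⟨σ, h⟩ := exists_conjNormal hφ
    exact sq_inner h
  · obtain ⟨ε, hε, τ, hτ, hετ⟩ := exists_exo_sq
    obtain ⟨σ, hσ⟩ := exists_conjNormal (inv_mul_mem hε hφ)
    have h1 : φ = ε * MulAut.conjNormal σ := by rw [← hσ, mul_inv_cancel_left]
    have h2 : ε * MulAut.conjNormal σ * ε⁻¹ ∈ NE := by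
      have h3 := inv_mul_mem (α := ε⁻¹) (β := MulAut.conjNormal σ * ε⁻¹) (fun h => hε (inv_mem_iff.1 h))
        (fun h => hε (by
          have h4 := NE.mul_mem (NE.inv_mem (conjNormal_mem_NE σ)) h
          rw [inv_mul_cancel_left] at h4
          exact inv_mem_iff.1 h4))
      rwa [inv_inv, ← mul_assoc] at h3
    obtain ⟨ρ, hρ⟩ := exists_conjNormal h2
    -- `ρ` and `σ` have the same sign
    have hsign : sign ρ = sign σ := by
      have key : ∀ a b : Perm (Fin 6), ∀ e : MulAut A6, e * MulAut.conjNormal a * e⁻¹ = MulAut.conjNormal b →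
          sign a = 1 → sign b = 1 := by
        intro a b e he ha
        rw [conjNormal_of_even ha] at he
        obtain ⟨c, hc⟩ : ∃ c : A6, c = e ⟨a, Perm.mem_alternatingGroup.2 ha⟩ := ⟨_, rfl⟩
        have h5 : (MulAut.conjNormal b : MulAut A6) = MulAut.conjNormal (c : Perm (Fin 6)) := by
          rw [MulAut.conjNormal_val, ← he, hc]
          ext x : 1
          simp [MulAut.mul_apply]
        rw [inj_six h5]
        exact Perm.mem_alternatingGroup.1 c.2
      rcases Int.units_eq_one_or (sign σ) with h5 | h5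
      · rw [h5]; exact key _ _ _ hρ h5
      · rcases Int.units_eq_one_or (sign ρ) with h6 | h6
        · exfalso
          have h7 : ε⁻¹ * MulAut.conjNormal ρ * ε⁻¹⁻¹ = MulAut.conjNormal σ := by
            rw [← hρ]; group
          rw [key _ _ _ h7 h6] at h5
          revert h5; decide
        · rw [h5, h6]
    have h3 : φ * φ = MulAut.conjNormal (ρ * τ * σ) := by
      rw [map_mul, map_mul, ← hετ, ← hρ, h1]
      group
    have h4 : sign (ρ * τ * σ) = 1 := by
      rw [map_mul, map_mul, hτ, mul_one, hsign]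
      exact Int.units_mul_self _
    exact ⟨_, h3.trans (conjNormal_of_even h4)⟩

end Cfsg.Agent.H853.Der
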