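import Cfsg.Agent.H853.Der.ASixA

/-!
# `A₆` (S3502): the elements of order four
-/

set_option autoImplicit false

namespace Cfsg.Agent.H853.Der

open Subgroup Equiv Equiv.Perm

open Cfsg.Agent.LFourA.AltPsiAut

/-- an element of order four -/
def c4 : A6 := ⟨swap 0 1 * swap 1 2 * swap 2 3 * swap 4 5, by rw [Perm.mem_alternatingGroup]; decide⟩

theorem c4_class0 : ∀ x : Perm (Fin 6), x 0 = 0 → sign x = 1 → x * x ≠ 1 → x * x * (x * x) = 1 →
    ∃ g : Perm (Fin 6), g * x = (swap 0 1 * swap 1 2 * swap 2 3 * swap 4 5) * g ∧ sign g = 1 := by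
  decide +kernel

theorem c4_class1 : ∀ x : Perm (Fin 6), x 0 = 1 → sign x = 1 → x * x ≠ 1 → x * x * (x * x) = 1 →
    ∃ g : Perm (Fin 6), g * x = (swap 0 1 * swap 1 2 * swap 2 3 * swap 4 5) * g ∧ sign g = 1 := by
  decide +kernel

theorem c4_class2 : ∀ x : Perm (Fin 6), x 0 = 2 → sign x = 1 → x * x ≠ 1 → x * x * (x * x) = 1 →
    ∃ g : Perm (Fin 6), g * x = (swap 0 1 * swap 1 2 * swap 2 3 * swap 4 5) * g ∧ sign g = 1 := by
  decide +kernel

theorem c4_class3 : ∀ x : Perm (Fin 6), x 0 = 3 → sign x = 1 → x * x ≠ 1 → x * x * (x * x) = 1 →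
    ∃ g : Perm (Fin 6), g * x = (swap 0 1 * swap 1 2 * swap 2 3 * swap 4 5) * g ∧ sign g = 1 := by
  decide +kernel

theorem c4_class4 : ∀ x : Perm (Fin 6), x 0 = 4 → sign x = 1 → x * x ≠ 1 → x * x * (x * x) = 1 →
    ∃ g : Perm (Fin 6), g * x = (swap 0 1 * swap 1 2 * swap 2 3 * swap 4 5) * g ∧ sign g = 1 := by
  decide +kernel

theorem c4_class5 : ∀ x : Perm (Fin 6), x 0 = 5 → sign x = 1 → x * x ≠ 1 → x * x * (x * x) = 1 →
    ∃ g : Perm (Fin 6), g * x = (swap 0 1 * swap 1 2 * swap 2 3 * swap 4 5) * g ∧ sign g = 1 := by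
  decide +kernel

theorem c4_class : ∀ x : Perm (Fin 6), sign x = 1 → x * x ≠ 1 → x * x * (x * x) = 1 →
    ∃ g : Perm (Fin 6), sign g = 1 ∧ g * x = (swap 0 1 * swap 1 2 * swap 2 3 * swap 4 5) * g := by
  intro x h1 h2 h3
  have key : ∃ g : Perm (Fin 6), g * x = (swap 0 1 * swap 1 2 * swap 2 3 * swap 4 5) * g ∧ sign g = 1 := by
    obtain ⟨i, hi⟩ : ∃ i, x 0 = i := ⟨_, rfl⟩
    fin_cases i
    · exact c4_class0 x hi h1 h2 h3
    · exact c4_class1 x hi h1 h2 h3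
    · exact c4_class2 x hi h1 h2 h3
    · exact c4_class3 x hi h1 h2 h3
    · exact c4_class4 x hi h1 h2 h3
    · exact c4_class5 x hi h1 h2 h3
  obtain ⟨g, hg1, hg2⟩ := key
  exact ⟨g, hg2, hg1⟩

theorem c4_cent : ∀ u : Perm (Fin 6), sign u = 1 → u * (swap 0 1 * swap 1 2 * swap 2 3 * swap 4 5) =
    (swap 0 1 * swap 1 2 * swap 2 3 * swap 4 5) * u →
    u = 1 ∨ u = (swap 0 1 * swap 1 2 * swap 2 3 * swap 4 5) ∨
    u = (swap 0 1 * swap 1 2 * swap 2 3 * swap 4 5) * (swap 0 1 * swap 1 2 * swap 2 3 * swap 4 5) ∨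
    u = (swap 0 1 * swap 1 2 * swap 2 3 * swap 4 5)⁻¹ := by
  decide +kernel

theorem cent_c4 {u : A6} (h : u * c4 = c4 * u) : u = 1 ∨ u = c4 ∨ u = c4 * c4 ∨ u = c4⁻¹ := by
  rcases c4_cent u (Perm.mem_alternatingGroup.1 u.2) (congrArg Subtype.val h) with h1 | h1 | h1 | h1
  · exact Or.inl (Subtype.ext h1)
  · exact Or.inr (Or.inl (Subtype.ext h1))
  · exact Or.inr (Or.inr (Or.inl (Subtype.ext h1)))
  · exact Or.inr (Or.inr (Or.inr (Subtype.ext h1)))

theorem c4_real : ∃ d : A6, d * c4 * d⁻¹ = c4⁻¹ :=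
  ⟨⟨swap 1 3 * swap 4 5, by rw [Perm.mem_alternatingGroup]; decide⟩, by apply Subtype.ext; decide⟩

theorem c4_sq : c4 * c4 ≠ 1 := fun h => by
  have := congrArg Subtype.val h
  revert this; decide

theorem c4_four : c4 * c4 * (c4 * c4) = 1 := by apply Subtype.ext; decide

theorem order_c4 : orderOf c4 = 4 := order_four c4_sq c4_four

theorem conj_c4 {x : A6} (hx : orderOf x = 4) : ∃ g : A6, g * x * g⁻¹ = c4 := by
  have h4 : x ^ 4 = 1 := by rw [← hx]; exact pow_orderOf_eq_one x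
  have h2 : x ^ 2 ≠ 1 := by
    intro h
    have := orderOf_dvd_of_pow_eq_one h
    rw [hx] at this
    omega
  obtain ⟨g, hg, hgx⟩ := c4_class x (Perm.mem_alternatingGroup.1 x.2)
    (fun h => h2 (Subtype.ext (by rw [pow_two]; exact h)))
    (by
      have := congrArg Subtype.val h4
      rw [show 4 = 2 + 2 by norm_num, pow_add, pow_two] at this
      exact this)
  refine ⟨⟨g, Perm.mem_alternatingGroup.2 hg⟩, ?_⟩
  rw [mul_inv_eq_iff_eq_mul]
  exact Subtype.ext hgx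

theorem no_six_order : ∀ g : Perm (Fin 6), sign g = 1 → (g * g * g) * (g * g * g) = 1 →
    g * g = 1 ∨ g * g * g = 1 := by
  decide +kernel

/-- the dihedral group of order eight -/
def L8 : List (Perm (Fin 6)) := [1, swap 0 1 * swap 1 2 * swap 2 3 * swap 4 5, swap 0 2 * swap 1 3,
  swap 0 3 * swap 3 2 * swap 2 1 * swap 4 5, swap 0 2 * swap 4 5, swap 1 3 * swap 4 5, swap 0 1 * swap 2 3,
  swap 0 3 * swap 1 2]

theorem L8_even : ∀ t ∈ L8, sign t = 1 := by decide +kernel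

theorem L8_mul : ∀ a ∈ L8, ∀ b ∈ L8, a * b ∈ L8 := by decide +kernel

theorem L8_inv : ∀ a ∈ L8, a⁻¹ ∈ L8 := by decide +kernel

theorem key_six : ∀ σ : Perm (Fin 6), sign σ = -1 →
    σ * (swap 0 1 * swap 1 2 * swap 2 3 * swap 4 5) * σ⁻¹ ∈ L8 →
    σ * (swap 0 2 * swap 4 5) * σ⁻¹ ∈ L8 → ∃ r ∈ L8, r * σ = swap 4 5 := by decide +kernel

/-- the dihedral group of order eight in `A₆` -/
def D8 : Subgroup A6 where
  carrier := {x | (x : Perm (Fin 6)) ∈ L8}
  one_mem' := by decide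
  mul_mem' := fun {a b} ha hb => L8_mul _ ha _ hb
  inv_mem' := fun {a} ha => L8_inv _ ha

theorem mem_D8 {x : A6} : x ∈ D8 ↔ (x : Perm (Fin 6)) ∈ L8 := Iff.rfl

instance instDecD8 : DecidablePred (fun x : A6 => x ∈ D8) :=
  fun x => inferInstanceAs (Decidable ((x : Perm (Fin 6)) ∈ L8))

theorem card_D8 : Nat.card D8 = 8 := by
  rw [Nat.card_eq_fintype_card]
  decide +kernel

theorem card_a6 : Nat.card A6 = 360 := by
  have h : 2 * Nat.card A6 = Nat.card (Perm (Fin 6)) := two_mul_nat_card_alternatingGroup (α := Fin 6)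
  rw [Nat.card_perm, Nat.card_fin] at h
  have h6 : Nat.factorial 6 = 720 := rfl
  omega

theorem y5_six : ∃ x y : A6, orderOf x = 5 ∧ orderOf y = 5 ∧ ∀ g : A6, g * x * g⁻¹ ≠ y := by
  have : Fact (Nat.Prime 5) := ⟨by norm_num⟩
  refine ⟨⟨swap 0 1 * swap 1 2 * (swap 2 3 * swap 3 4), by rw [Perm.mem_alternatingGroup]; decide⟩,
    ⟨swap 0 1 * swap 1 2 * (swap 2 3 * swap 3 4) * (swap 0 1 * swap 1 2 * (swap 2 3 * swap 3 4)), by
      rw [Perm.mem_alternatingGroup]; decide⟩, orderOf_eq_prime ?_ ?_, orderOf_eq_prime ?_ ?_, ?_⟩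
  · apply Subtype.ext; decide +kernel
  · intro h; revert h; decide
  · apply Subtype.ext; decide +kernel
  · intro h; revert h; decide
  · decide +kernel

theorem y3_six : ∃ x y : A6, orderOf x = 3 ∧ orderOf y = 3 ∧ ∀ g : A6, g * x * g⁻¹ ≠ y := by
  have : Fact (Nat.Prime 3) := ⟨Nat.prime_three⟩
  refine ⟨⟨swap 0 1 * swap 1 2, by rw [Perm.mem_alternatingGroup]; decide⟩,
    ⟨swap 0 1 * swap 1 2 * (swap 3 4 * swap 4 5), by rw [Perm.mem_alternatingGroup]; decide⟩,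
    orderOf_eq_prime ?_ ?_, orderOf_eq_prime ?_ ?_, ?_⟩
  · apply Subtype.ext; decide +kernel
  · intro h; revert h; decide
  · apply Subtype.ext; decide +kernel
  · intro h; revert h; decide
  · decide +kernel

theorem no_four_a5 : ∀ x : alternatingGroup (Fin 5), x * x * (x * x) = 1 → x * x = 1 := by decide +kernel

end Cfsg.Agent.H853.Der
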