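import Cfsg.Agent.H853.Fx.PslE
import Cfsg.Agent.S0253
import Cfsg.Agent.S0254

/-!
# The orders of the subgroups of `A₅` and `A₆`
-/

set_option autoImplicit false

namespace Cfsg.Agent.H853.Der

open Subgroup Matrix Cfsg.Agent.H853.Fx Cfsg.Agent.ClassicalGeometry

theorem card_map {T S : Type*} [Group T] [Group S] (e : T ≃* S) (R : Subgroup T) :
    Nat.card (R.map e.toMonoidHom) = Nat.card R :=
  (Nat.card_congr (e.subgroupMap R).toEquiv).symm

theorem map_ne_top {T S : Type*} [Group T] [Group S] (e : T ≃* S) {R : Subgroup T} (hR : R ≠ ⊤) :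
    R.map e.toMonoidHom ≠ ⊤ := by
  intro h
  apply hR
  rw [eq_top_iff]
  intro x _
  have h1 : e x ∈ R.map e.toMonoidHom := by rw [h]; trivial
  obtain ⟨y, hy, hyx⟩ := h1
  rwa [← e.injective hyx]

section psl

variable {F : Type*} [Field F] [Fintype F]

local notation "KK" => Matrix.ProjectiveSpecialLinearGroup (Fin 2) F

theorem card_ne_of_ne_top {G : Type*} [Group G] [Finite G] {H : Subgroup G} (hH : H ≠ ⊤) :
    Nat.card H ≠ Nat.card G := fun h => hH (Subgroup.eq_top_of_card_eq H h)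

theorem sub_psl5 (h5 : Fintype.card F = 5) {H : Subgroup KK} (hH : H ≠ ⊤) :
    Nat.card H ∣ 6 ∨ Nat.card H ∣ 4 ∨ Nat.card H ∣ 10 ∨
      (Nat.card H = 12 ∧ Nonempty (H ≃* alternatingGroup (Fin 4))) := by
  have : Fact (Nat.Prime 5) := ⟨by norm_num⟩
  have : CharP F 5 := by
    obtain ⟨q, hq⟩ := CharP.exists F
    obtain ⟨n, hqp, hn⟩ := FiniteField.card F q
    have h4 : q ∣ 5 := by
      rw [← h5, hn]
      exact dvd_pow_self q n.pos.ne'
    rwa [(Nat.prime_dvd_prime_iff_eq hqp (by norm_num)).1 h4] at hq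
  have ho : Odd (Fintype.card F) := by rw [h5]; decide
  have hK := PSL2Basic.card_PSL2_odd (F := F) ho
  rw [h5] at hK
  have hK60 : Nat.card KK = 60 := by omega
  have hne := card_ne_of_ne_top hH
  rw [hK60] at hne
  have hdv : Nat.card H ∣ 60 := by rw [← hK60]; exact Subgroup.card_subgroup_dvd_card H
  have hle : Nat.card H ≤ 60 := Nat.le_of_dvd (by norm_num) hdv
  rcases dickson h5 5 H with ⟨k, hk, h⟩ | ⟨h51, P, hP⟩ | ⟨⟨e⟩⟩ | ⟨⟨e⟩⟩ | ⟨⟨e⟩⟩ | ⟨K, iK, iK2, m, hm, he⟩
  · norm_num at hk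
    rcases h with ⟨_, h⟩ | ⟨⟨e⟩⟩
    · rw [h]
      rcases hk with hk | hk
      · exact Or.inl (hk.trans (by norm_num))
      · exact Or.inr (Or.inl (hk.trans (by norm_num)))
    · rw [Nat.card_congr e.toEquiv, DihedralGroup.nat_card]
      rcases hk with hk | hk
      · exact Or.inl (Nat.mul_dvd_mul_left 2 hk)
      · exact Or.inr (Or.inl (Nat.mul_dvd_mul_left 2 hk))
  · have h1 := card_norm 5 ho P
    rw [h5] at h1
    have h2 := Subgroup.card_dvd_of_le hP
    right; right; left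
    rwa [show Nat.card (normalizer ((P : Subgroup KK) : Set KK)) = 10 by omega] at h2
  · right; right; right
    exact ⟨(Nat.card_congr e.toEquiv).trans card_A4, ⟨e⟩⟩
  · exfalso
    rw [Nat.card_congr e.toEquiv, card_S4] at hdv
    omega
  · exfalso
    exact hne ((Nat.card_congr e.toEquiv).trans card_A5)
  · exfalso
    have hK5 : Fintype.card K = 5 := by
      have h1 : Fintype.card K ∣ 5 := by
        rw [← hm]
        apply dvd_pow_self
        rintro rfl
        rw [pow_zero] at hm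
        omega
      rcases (Nat.dvd_prime (by norm_num)).1 h1 with h2 | h2
      · have := Fintype.one_lt_card (α := K); omega
      · exact h2
    rcases he with ⟨⟨e⟩⟩ | ⟨⟨e⟩⟩
    · have h1 := PSL2Basic.card_PSL2_odd K (by rw [hK5]; decide)
      have h3 := Nat.card_congr e.toEquiv
      rw [hK5, ← h3] at h1
      omega
    · have h1 := PSL2Basic.card_PGL2 K
      have h3 := (Nat.card_congr e.toEquiv).trans h1
      rw [hK5] at h3
      norm_num at h3
      omega

theorem sub_psl9 (h9 : Fintype.card F = 9) {H : Subgroup KK} (hH : H ≠ ⊤) :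
    Nat.card H ∣ 8 ∨ Nat.card H ∣ 10 ∨ Nat.card H ∣ 36 ∨ Nat.card H = 24 ∨
      (Nat.card H = 60 ∧ Nonempty (H ≃* alternatingGroup (Fin 5))) := by
  have : Fact (Nat.Prime 3) := ⟨by norm_num⟩
  have : CharP F 3 := by
    obtain ⟨q, hq⟩ := CharP.exists F
    obtain ⟨n, hqp, hn⟩ := FiniteField.card F q
    have h4 : q ∣ 3 ^ 2 := by
      rw [show 3 ^ 2 = 9 by norm_num, ← h9, hn]
      exact dvd_pow_self q n.pos.ne'
    rwa [(Nat.prime_dvd_prime_iff_eq hqp (by norm_num)).1 (hqp.dvd_of_dvd_pow h4)] at hq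
  have ho : Odd (Fintype.card F) := by rw [h9]; decide
  have hK := PSL2Basic.card_PSL2_odd (F := F) ho
  rw [h9] at hK
  have hK60 : Nat.card KK = 360 := by omega
  have hne := card_ne_of_ne_top hH
  rw [hK60] at hne
  have hdv : Nat.card H ∣ 360 := by rw [← hK60]; exact Subgroup.card_subgroup_dvd_card H
  have hle : Nat.card H ≤ 360 := Nat.le_of_dvd (by norm_num) hdv
  rcases dickson h9 3 H with ⟨k, hk, h⟩ | ⟨h51, P, hP⟩ | ⟨⟨e⟩⟩ | ⟨⟨e⟩⟩ | ⟨⟨e⟩⟩ | ⟨K, iK, iK2, m, hm, he⟩
  · norm_num at hk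
    rcases h with ⟨_, h⟩ | ⟨⟨e⟩⟩
    · rw [h]
      rcases hk with hk | hk
      · exact Or.inr (Or.inl (hk.trans (by norm_num)))
      · exact Or.inl (hk.trans (by norm_num))
    · rw [Nat.card_congr e.toEquiv, DihedralGroup.nat_card]
      rcases hk with hk | hk
      · exact Or.inr (Or.inl (Nat.mul_dvd_mul_left 2 hk))
      · exact Or.inl (Nat.mul_dvd_mul_left 2 hk)
  · have h1 := card_norm 3 ho P
    rw [h9] at h1
    have h2 := Subgroup.card_dvd_of_le hP
    right; right; left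
    rwa [show Nat.card (normalizer ((P : Subgroup KK) : Set KK)) = 36 by omega] at h2
  · right; right; left
    rw [Nat.card_congr e.toEquiv, card_A4]
    norm_num
  · right; right; right; left
    exact (Nat.card_congr e.toEquiv).trans card_S4
  · right; right; right; right
    exact ⟨(Nat.card_congr e.toEquiv).trans card_A5, ⟨e⟩⟩
  · have hm0 : m ≠ 0 := by
      rintro rfl
      rw [pow_zero] at hm
      omega
    have hK5 : Fintype.card K = 9 ∨ Fintype.card K = 3 := by
      have h1 : Fintype.card K ∣ 3 ^ 2 := by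
        rw [show 3 ^ 2 = 9 by norm_num, ← hm]
        exact dvd_pow_self _ hm0
      obtain ⟨j, hj, hj2⟩ := (Nat.dvd_prime_pow (by norm_num)).1 h1
      have := Fintype.one_lt_card (α := K)
      interval_cases j <;> omega
    rcases hK5 with hK5 | hK5
    · exfalso
      rcases he with ⟨⟨e⟩⟩ | ⟨⟨e⟩⟩
      · have h1 := PSL2Basic.card_PSL2_odd K (by rw [hK5]; decide)
        have h3 := Nat.card_congr e.toEquiv
        rw [hK5, ← h3] at h1
        omega
      · have h1 := PSL2Basic.card_PGL2 K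
        have h3 := (Nat.card_congr e.toEquiv).trans h1
        rw [hK5] at h3
        norm_num at h3
        omega
    · rcases he with ⟨⟨e⟩⟩ | ⟨⟨e⟩⟩
      · have h1 := PSL2Basic.card_PSL2_odd K (by rw [hK5]; decide)
        rw [hK5] at h1
        right; right; left
        rw [Nat.card_congr e.toEquiv,
          show Nat.card (Matrix.ProjectiveSpecialLinearGroup (Fin 2) K) = 12 by omega]
        norm_num
      · have h1 := PSL2Basic.card_PGL2 K
        rw [hK5] at h1
        right; right; right; left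
        rw [Nat.card_congr e.toEquiv, h1]
        norm_num

end psl

theorem sub_a5 {H : Subgroup (alternatingGroup (Fin 5))} (hH : H ≠ ⊤) :
    Nat.card H ∣ 6 ∨ Nat.card H ∣ 4 ∨ Nat.card H ∣ 10 ∨
      (Nat.card H = 12 ∧ Nonempty (H ≃* alternatingGroup (Fin 4))) := by
  have : Fact (Nat.Prime 5) := ⟨by norm_num⟩
  obtain ⟨e⟩ := Cfsg.Agent.S0253.result (F := ZMod 5) (ZMod.card 5)
  have h := sub_psl5 (F := ZMod 5) (ZMod.card 5) (map_ne_top e.symm hH)
  rw [card_map] at h
  rcases h with h | h | h | ⟨h, ⟨f⟩⟩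
  · exact Or.inl h
  · exact Or.inr (Or.inl h)
  · exact Or.inr (Or.inr (Or.inl h))
  · exact Or.inr (Or.inr (Or.inr ⟨h, ⟨(e.symm.subgroupMap H).trans f⟩⟩))

theorem sub_a6 {H : Subgroup (alternatingGroup (Fin 6))} (hH : H ≠ ⊤) :
    Nat.card H ∣ 8 ∨ Nat.card H ∣ 10 ∨ Nat.card H ∣ 36 ∨ Nat.card H = 24 ∨
      (Nat.card H = 60 ∧ Nonempty (H ≃* alternatingGroup (Fin 5))) := by
  have : Fact (Nat.Prime 3) := ⟨by norm_num⟩
  have : Fintype (GaloisField 3 2) := Fintype.ofFinite _
  have hc : Fintype.card (GaloisField 3 2) = 9 := by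
    rw [← Nat.card_eq_fintype_card, GaloisField.card 3 2 (by norm_num)]
    norm_num
  obtain ⟨e⟩ := Cfsg.Agent.S0254.result (F := GaloisField 3 2) hc
  have h := sub_psl9 (F := GaloisField 3 2) hc (map_ne_top e.symm hH)
  rw [card_map] at h
  rcases h with h | h | h | h | ⟨h, ⟨f⟩⟩
  · exact Or.inl h
  · exact Or.inr (Or.inl h)
  · exact Or.inr (Or.inr (Or.inl h))
  · exact Or.inr (Or.inr (Or.inr (Or.inl h)))
  · exact Or.inr (Or.inr (Or.inr (Or.inr ⟨h, ⟨(e.symm.subgroupMap H).trans f⟩⟩)))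

end Cfsg.Agent.H853.Der
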